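import Cfsg.Agent.ReeG2Spectrum.Modules

/-!
Soluble groups of arbitrarily large order whose element orders are the divisors of the least common
multiples of three of six given numbers `9, 6, A, B, s₁, s₂`.
-/

set_option autoImplicit false
set_option linter.unusedSectionVars false
set_option linter.style.haveILetI false

namespace CfsgLib.ReeG2Spectrum

/-- The six numbers. -/
def slot (A B s₁ s₂ : ℕ) : Fin 6 → ℕ := ![9, 6, A, B, s₁, s₂]

/-- The kind of each module. -/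
def kind : Fin 7 → Fin 6 := ![2, 2, 3, 3, 0, 0, 1]

/-- The line of the first top component that fixes each module. -/
def lineP : Fin 7 → Fin 4 := ![0, 1, 0, 2, 1, 2, 3]

/-- The line of the second top component that fixes each module. -/
def lineQ : Fin 7 → Fin 4 := ![1, 0, 2, 0, 2, 1, 3]

/-- The pair of kinds of the modules fixed by a line. -/
def pairOf : Fin 4 → Fin 6 × Fin 6 := ![(2, 3), (2, 0), (3, 0), (1, 1)]

theorem line_inj : ∀ i j, lineP i = lineP j → lineQ i = lineQ j → i = j := by decide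

theorem kind_mem : ∀ i, (kind i = (pairOf (lineP i)).1 ∨ kind i = (pairOf (lineP i)).2) ∧
    (kind i = (pairOf (lineQ i)).1 ∨ kind i = (pairOf (lineQ i)).2) := by decide

/-- The linear forms cutting out the four lines. -/
def form (s : ℕ) : Fin 4 → (ZMod s × ZMod s →+ ZMod s) :=
  ![AddMonoidHom.fst _ _, AddMonoidHom.snd _ _, AddMonoidHom.fst _ _ - AddMonoidHom.snd _ _,
    AddMonoidHom.fst _ _ + AddMonoidHom.snd _ _]

/-- A point of exact order `s` on each line. -/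
def gen (s : ℕ) : Fin 4 → ZMod s × ZMod s := ![(0, 1), (1, 0), (1, 1), (1, -1)]

theorem form_gen (s : ℕ) (l : Fin 4) : form s l (gen s l) = 0 := by
  fin_cases l <;> simp [form, gen]

theorem addOrderOf_gen (s : ℕ) (l : Fin 4) : addOrderOf (gen s l) = s := by
  fin_cases l <;> simp [gen, Prod.addOrderOf, ZMod.addOrderOf_one, addOrderOf_neg]

theorem eq_zero_of_forms {s : ℕ} (hs : Odd s) {l l' : Fin 4} (hl : l ≠ l') {p : ZMod s × ZMod s}
    (h : form s l p = 0) (h' : form s l' p = 0) : p = 0 := by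
  have h2 : ∀ x : ZMod s, x + x = 0 → x = 0 := fun x hx => by
    have hu : IsUnit ((2 : ℕ) : ZMod s) :=
      (ZMod.isUnit_iff_coprime 2 s).2 (Nat.prime_two.coprime_iff_not_dvd.2 (by
        obtain ⟨j, rfl⟩ := hs; omega))
    exact hu.mul_right_eq_zero.1 (by rw [Nat.cast_two, two_mul, hx])
  obtain ⟨x, y⟩ := p
  fin_cases l <;> fin_cases l' <;> simp [form] at hl h h' ⊢ <;>
    refine ⟨?_, ?_⟩ <;> first | assumption | exact h2 _ (by grind)

/-- The covering sets of kinds. -/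
def covers : List (Finset (Fin 6)) :=
  [{0, 1, 2, 3}, {4, 2, 3}, {4, 0, 1, 2}, {4, 0, 1, 3}, {5, 2, 3}, {5, 0, 1, 2}, {5, 0, 1, 3},
    {4, 5, 2}, {4, 5, 3}, {4, 5, 0}, {4, 5, 1}]

theorem exists_cover : ∀ x y z : Fin 6, ∃ c ∈ covers, x ∈ c ∧ y ∈ c ∧ z ∈ c := by decide

section construction

variable (A B s₁ s₂ : ℕ) (N : ℕ)

/-- The top group. -/
abbrev Top : Type := Multiplicative ((ZMod s₁ × ZMod s₁) × (ZMod s₂ × ZMod s₂))

/-- The product of the modules. -/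
abbrev Base : Type :=
  (x : Fin 7 × Fin (N + 1)) → Rt (slot A B s₁ s₂ (kind x.1)) (s₁ * s₂)

variable {s₁ s₂} [NeZero s₁] [NeZero s₂] (hc : Nat.Coprime s₁ s₂)

/-- The character of the top on a module, additively. -/
noncomputable def chi (i : Fin 7) :
    ((ZMod s₁ × ZMod s₁) × (ZMod s₂ × ZMod s₂)) →+ ZMod (s₁ * s₂) :=
  (ZMod.chineseRemainder hc).symm.toRingHom.toAddMonoidHom.comp
    ((((form s₁ (lineP i)).comp (AddMonoidHom.fst _ _)).prod
      ((form s₂ (lineQ i)).comp (AddMonoidHom.snd _ _))))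

theorem chi_eq_zero {i : Fin 7} {t : (ZMod s₁ × ZMod s₁) × (ZMod s₂ × ZMod s₂)} :
    chi hc i t = 0 ↔ form s₁ (lineP i) t.1 = 0 ∧ form s₂ (lineQ i) t.2 = 0 := by
  show (ZMod.chineseRemainder hc).symm (form s₁ (lineP i) t.1, form s₂ (lineQ i) t.2) = 0 ↔ _
  rw [EmbeddingLike.map_eq_zero_iff, Prod.mk_eq_zero]

/-- The action on the product of the modules. -/
noncomputable def act : Top s₁ s₂ →* (Base A B s₁ s₂ N)ˣ :=
  haveI : NeZero (s₁ * s₂) := ⟨Nat.mul_ne_zero (NeZero.ne _) (NeZero.ne _)⟩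
  MonoidHom.toHomUnits
    { toFun := fun t x => rootChar (chi hc x.1 t.toAdd)
      map_one' := by funext x; simp
      map_mul' := fun t t' => by funext x; simp [AddChar.map_add_eq_mul] }

theorem act_apply [NeZero (s₁ * s₂)] (t : Top s₁ s₂) (x : Fin 7 × Fin (N + 1)) :
    (act A B N hc t : Base A B s₁ s₂ N) x = rootChar (chi hc x.1 t.toAdd) := rfl

/-- The soluble group. -/
abbrev Grp : Type := Multiplicative (Base A B s₁ s₂ N) ⋊[unitsAct (act A B N hc)] Top s₁ s₂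

variable (hA : 2 ∣ A) (hB : 2 ∣ B) (hA1 : 1 < A) (hB1 : 1 < B)
  (hcop : ∀ i, Nat.Coprime (slot A B s₁ s₂ (kind i)) (s₁ * s₂))

include hA1 hB1 in
theorem one_lt_slot (i : Fin 7) : 1 < slot A B s₁ s₂ (kind i) := by
  fin_cases i <;> simp [slot, kind] <;> assumption

include hcop in
theorem orderOf_dvd (h : Grp A B N hc) {M : ℕ} (h1 : addOrderOf h.right.toAdd ∣ M)
    (h2 : ∀ i, chi hc i h.right.toAdd = 0 → slot A B s₁ s₂ (kind i) ∣ M) : orderOf h ∣ M := by
  haveI : NeZero (s₁ * s₂) := ⟨Nat.mul_ne_zero (NeZero.ne _) (NeZero.ne _)⟩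
  have ht : h.right ^ M = 1 := orderOf_dvd_iff_pow_eq_one.1
    (by rwa [← orderOf_ofAdd_eq_addOrderOf, ofAdd_toAdd] at h1)
  refine orderOf_dvd_of_pow_eq_one ((pow_eq_one _ h M).2 ⟨ht, ?_⟩)
  funext x
  rw [Pi.mul_apply, Finset.sum_apply, Pi.zero_apply]
  simp only [Pi.pow_apply, act_apply]
  by_cases hx : chi hc x.1 h.right.toAdd = 0
  · rw [hx]
    simp only [AddChar.map_zero_eq_one, one_pow, Finset.sum_const, Finset.card_range, nsmul_eq_mul,
      mul_one]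
    rw [show ((M : ℕ) : Rt (slot A B s₁ s₂ (kind x.1)) (s₁ * s₂)) = 0 by
      obtain ⟨j, hj⟩ := h2 _ hx
      rw [hj, Nat.cast_mul, ← map_natCast (algebraMap (ZMod (slot A B s₁ s₂ (kind x.1))) _) (slot A B s₁ s₂ (kind x.1)),
        ZMod.natCast_self, map_zero,
        zero_mul], zero_mul]
  · refine geom_sum_mul_eq_zero (hcop x.1) hx ?_ _
    rw [← AddChar.map_nsmul_eq_pow, ← map_nsmul, ← toAdd_pow, ht, toAdd_one, map_zero,
      AddChar.map_zero_eq_one]

/-- The witness over a top element. -/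
noncomputable def witness (t : (ZMod s₁ × ZMod s₁) × (ZMod s₂ × ZMod s₂)) : Grp A B N hc :=
  ⟨Multiplicative.ofAdd 1, Multiplicative.ofAdd t⟩

include hA1 hB1 in
theorem dvd_orderOf_witness (t : (ZMod s₁ × ZMod s₁) × (ZMod s₂ × ZMod s₂)) :
    addOrderOf t ∣ orderOf (witness A B N hc t) ∧
      ∀ i, chi hc i t = 0 → slot A B s₁ s₂ (kind i) ∣ orderOf (witness A B N hc t) := by
  haveI : NeZero (s₁ * s₂) := ⟨Nat.mul_ne_zero (NeZero.ne _) (NeZero.ne _)⟩
  obtain ⟨h1, h2⟩ := (pow_eq_one _ _ _).1 (pow_orderOf_eq_one (witness A B N hc t))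
  refine ⟨addOrderOf_dvd_of_nsmul_eq_zero ?_, fun i hi => ?_⟩
  · have := congrArg Multiplicative.toAdd h1
    simpa [witness] using this
  · haveI : Fact (1 < slot A B s₁ s₂ (kind i)) := ⟨one_lt_slot A B hA1 hB1 i⟩
    have := congrFun h2 (i, 0)
    rw [Pi.mul_apply, Finset.sum_apply, Pi.zero_apply] at this
    simp only [Pi.pow_apply, act_apply, witness, toAdd_ofAdd, hi, AddChar.map_zero_eq_one, one_pow,
      Finset.sum_const, Finset.card_range, nsmul_eq_mul, mul_one, Pi.one_apply] at this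
    exact (natCast_eq_zero (NeZero.pos _) _).1 this

include hA hB hA1 hB1 in
/-- Every triple is realised. -/
theorem realise (x y z : Fin 6) : ∃ h : Grp A B N hc,
    Nat.lcm (slot A B s₁ s₂ x) (Nat.lcm (slot A B s₁ s₂ y) (slot A B s₁ s₂ z)) ∣ orderOf h := by
  obtain ⟨c, hcc, hx, hy, hz⟩ := exists_cover x y z
  suffices H : ∃ h : Grp A B N hc, ∀ i ∈ c, slot A B s₁ s₂ i ∣ orderOf h by
    obtain ⟨h, hh⟩ := H
    exact ⟨h, Nat.lcm_dvd (hh _ hx) (Nat.lcm_dvd (hh _ hy) (hh _ hz))⟩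
  have six : ∀ {D : ℕ}, (2 ∣ A ∧ A ∣ D ∨ 2 ∣ B ∧ B ∣ D) → 9 ∣ D → 6 ∣ D := fun h h9 => by
    rcases h with ⟨h2, h⟩ | ⟨h2, h⟩ <;>
      exact Nat.Coprime.mul_dvd_of_dvd_of_dvd (show Nat.Coprime 2 3 by norm_num) (h2.trans h)
        ((show 3 ∣ 9 by norm_num).trans h9)
  have key : ∀ t : (ZMod s₁ × ZMod s₁) × (ZMod s₂ × ZMod s₂), ∀ j,
      form s₁ (lineP j) t.1 = 0 → form s₂ (lineQ j) t.2 = 0 →
        slot A B s₁ s₂ (kind j) ∣ orderOf (witness A B N hc t) := fun t j h h' =>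
    (dvd_orderOf_witness A B N hc hA1 hB1 t).2 j ((chi_eq_zero hc).2 ⟨h, h'⟩)
  have hord : ∀ t : (ZMod s₁ × ZMod s₁) × (ZMod s₂ × ZMod s₂),
      addOrderOf t.1 ∣ orderOf (witness A B N hc t) ∧ addOrderOf t.2 ∣ orderOf (witness A B N hc t) := by
    intro t
    have h := (dvd_orderOf_witness A B N hc hA1 hB1 t).1
    rw [Prod.addOrderOf] at h
    exact ⟨(Nat.dvd_lcm_left _ _).trans h, (Nat.dvd_lcm_right _ _).trans h⟩
  have hgP : ∀ l q, s₁ ∣ orderOf (witness A B N hc (gen s₁ l, q)) := fun l q =>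
    (dvd_of_eq (addOrderOf_gen s₁ l).symm).trans (hord (gen s₁ l, q)).1
  have hgQ : ∀ l p, s₂ ∣ orderOf (witness A B N hc (p, gen s₂ l)) := fun l p =>
    (dvd_of_eq (addOrderOf_gen s₂ l).symm).trans (hord (p, gen s₂ l)).2
  simp only [covers, List.mem_cons, List.not_mem_nil, or_false] at hcc
  rcases hcc with rfl | rfl | rfl | rfl | rfl | rfl | rfl | rfl | rfl | rfl | rfl <;>
    simp only [Finset.mem_insert, Finset.mem_singleton, forall_eq_or_imp, forall_eq]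
  · have k0 := key 0 4 (map_zero _) (map_zero _)
    have k2 := key 0 0 (map_zero _) (map_zero _)
    have k3 := key 0 2 (map_zero _) (map_zero _)
    exact ⟨_, k0, six (Or.inl ⟨hA, k2⟩) k0, k2, k3⟩
  · have hl := form_gen s₁ 0
    exact ⟨witness A B N hc (gen s₁ 0, 0), (hgP 0 _),
      key _ 0 hl (map_zero _), key _ 2 hl (map_zero _)⟩
  · have hl := form_gen s₁ 1
    exact ⟨witness A B N hc (gen s₁ 1, 0), (hgP 1 _),
      key _ 4 hl (map_zero _), six (Or.inl ⟨hA, key _ 1 hl (map_zero _)⟩) (key _ 4 hl (map_zero _)),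
      key _ 1 hl (map_zero _)⟩
  · have hl := form_gen s₁ 2
    exact ⟨witness A B N hc (gen s₁ 2, 0), (hgP 2 _),
      key _ 5 hl (map_zero _), six (Or.inr ⟨hB, key _ 3 hl (map_zero _)⟩) (key _ 5 hl (map_zero _)),
      key _ 3 hl (map_zero _)⟩
  · have hl := form_gen s₂ 0
    exact ⟨witness A B N hc (0, gen s₂ 0), (hgQ 0 _),
      key _ 1 (map_zero _) hl, key _ 3 (map_zero _) hl⟩
  · have hl := form_gen s₂ 1
    exact ⟨witness A B N hc (0, gen s₂ 1), (hgQ 1 _),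
      key _ 5 (map_zero _) hl, six (Or.inl ⟨hA, key _ 0 (map_zero _) hl⟩) (key _ 5 (map_zero _) hl),
      key _ 0 (map_zero _) hl⟩
  · have hl := form_gen s₂ 2
    exact ⟨witness A B N hc (0, gen s₂ 2), (hgQ 2 _),
      key _ 4 (map_zero _) hl, six (Or.inr ⟨hB, key _ 2 (map_zero _) hl⟩) (key _ 4 (map_zero _) hl),
      key _ 2 (map_zero _) hl⟩
  all_goals
    first
    | exact ⟨witness A B N hc (gen s₁ 0, gen s₂ 1), (hgP 0 _),
        (hgQ 1 _), key _ 0 (form_gen s₁ 0) (form_gen s₂ 1)⟩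
    | exact ⟨witness A B N hc (gen s₁ 0, gen s₂ 2), (hgP 0 _),
        (hgQ 2 _), key _ 2 (form_gen s₁ 0) (form_gen s₂ 2)⟩
    | exact ⟨witness A B N hc (gen s₁ 1, gen s₂ 2), (hgP 1 _),
        (hgQ 2 _), key _ 4 (form_gen s₁ 1) (form_gen s₂ 2)⟩
    | exact ⟨witness A B N hc (gen s₁ 3, gen s₂ 3), (hgP 3 _),
        (hgQ 3 _), key _ 6 (form_gen s₁ 3) (form_gen s₂ 3)⟩

include hA hcop in
/-- Every order divides the least common multiple of three of the numbers. -/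
theorem sound (h1 : Odd s₁) (h2 : Odd s₂) (h : Grp A B N hc) : ∃ x y z : Fin 6,
    orderOf h ∣ Nat.lcm (slot A B s₁ s₂ x) (Nat.lcm (slot A B s₁ s₂ y) (slot A B s₁ s₂ z)) := by
  set t := h.right.toAdd with ht
  have hd : ∀ {s : ℕ} [NeZero s] (p : ZMod s × ZMod s), addOrderOf p ∣ s := fun {s} _ p =>
    addOrderOf_dvd_of_nsmul_eq_zero (Prod.ext (by simp) (by simp))
  have hsum : ∀ M, addOrderOf t.1 ∣ M → addOrderOf t.2 ∣ M → addOrderOf t ∣ M := fun M a b => by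
    rw [Prod.addOrderOf]
    exact Nat.lcm_dvd a b
  by_cases hp : t.1 = 0 <;> by_cases hq : t.2 = 0
  · refine ⟨0, 2, 3, orderOf_dvd A B N hc hcop h (hsum _ ?_ ?_) fun i _ => ?_⟩
    · rw [hp, addOrderOf_zero]; exact one_dvd _
    · rw [hq, addOrderOf_zero]; exact one_dvd _
    have h2dvd : ∀ {a b c : ℕ}, b ∣ Nat.lcm a (Nat.lcm b c) := fun {a b c} =>
      (Nat.dvd_lcm_left b c).trans (Nat.dvd_lcm_right a _)
    fin_cases i <;> simp only [kind, slot] <;>
      first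
      | exact Nat.dvd_lcm_left _ _
      | exact h2dvd
      | exact (Nat.dvd_lcm_right _ _).trans (Nat.dvd_lcm_right _ _)
      | exact Nat.Coprime.mul_dvd_of_dvd_of_dvd (show Nat.Coprime 2 3 by norm_num) (hA.trans h2dvd)
          ((show 3 ∣ 9 by norm_num).trans (Nat.dvd_lcm_left _ _))
  · by_cases hex : ∃ i, chi hc i t = 0
    · obtain ⟨i₀, hi₀⟩ := hex
      refine ⟨5, (pairOf (lineQ i₀)).1, (pairOf (lineQ i₀)).2,
        orderOf_dvd A B N hc hcop h (hsum _ ?_ ?_) fun i hi => ?_⟩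
      · rw [hp, addOrderOf_zero]; exact one_dvd _
      · exact (hd t.2).trans (Nat.dvd_lcm_left _ _)
      have hl : lineQ i = lineQ i₀ := by
        by_contra hne
        exact hq (eq_zero_of_forms h2 hne ((chi_eq_zero hc).1 hi).2 ((chi_eq_zero hc).1 hi₀).2)
      refine dvd_trans ?_ (Nat.dvd_lcm_right _ _)
      rcases (kind_mem i).2 with e | e <;> rw [e, hl]
      exacts [Nat.dvd_lcm_left _ _, Nat.dvd_lcm_right _ _]
    · refine ⟨5, 5, 5, orderOf_dvd A B N hc hcop h (hsum _ ?_ ?_) fun i hi => absurd ⟨i, hi⟩ hex⟩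
      · rw [hp, addOrderOf_zero]; exact one_dvd _
      · exact (hd t.2).trans (Nat.dvd_lcm_left _ _)
  · by_cases hex : ∃ i, chi hc i t = 0
    · obtain ⟨i₀, hi₀⟩ := hex
      refine ⟨4, (pairOf (lineP i₀)).1, (pairOf (lineP i₀)).2,
        orderOf_dvd A B N hc hcop h (hsum _ ?_ ?_) fun i hi => ?_⟩
      · exact (hd t.1).trans (Nat.dvd_lcm_left _ _)
      · rw [hq, addOrderOf_zero]; exact one_dvd _
      have hl : lineP i = lineP i₀ := by
        by_contra hne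
        exact hp (eq_zero_of_forms h1 hne ((chi_eq_zero hc).1 hi).1 ((chi_eq_zero hc).1 hi₀).1)
      refine dvd_trans ?_ (Nat.dvd_lcm_right _ _)
      rcases (kind_mem i).1 with e | e <;> rw [e, hl]
      exacts [Nat.dvd_lcm_left _ _, Nat.dvd_lcm_right _ _]
    · refine ⟨4, 4, 4, orderOf_dvd A B N hc hcop h (hsum _ ?_ ?_) fun i hi => absurd ⟨i, hi⟩ hex⟩
      · exact (hd t.1).trans (Nat.dvd_lcm_left _ _)
      · rw [hq, addOrderOf_zero]; exact one_dvd _
  · have d1 : ∀ z, s₁ ∣ Nat.lcm s₁ (Nat.lcm s₂ z) := fun z => Nat.dvd_lcm_left _ _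
    have d2 : ∀ z, s₂ ∣ Nat.lcm s₁ (Nat.lcm s₂ z) := fun z =>
      (Nat.dvd_lcm_left _ _).trans (Nat.dvd_lcm_right _ _)
    by_cases hex : ∃ i, chi hc i t = 0
    · obtain ⟨i₀, hi₀⟩ := hex
      refine ⟨4, 5, kind i₀, orderOf_dvd A B N hc hcop h
        (hsum _ ((hd t.1).trans (d1 _)) ((hd t.2).trans (d2 _))) fun i hi => ?_⟩
      have hii : i = i₀ := line_inj i i₀
        (by_contra fun hne => hp (eq_zero_of_forms h1 hne ((chi_eq_zero hc).1 hi).1
          ((chi_eq_zero hc).1 hi₀).1))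
        (by_contra fun hne => hq (eq_zero_of_forms h2 hne ((chi_eq_zero hc).1 hi).2
          ((chi_eq_zero hc).1 hi₀).2))
      subst hii
      exact (Nat.dvd_lcm_right _ _).trans (Nat.dvd_lcm_right _ _)
    · exact ⟨4, 5, 0, orderOf_dvd A B N hc hcop h
        (hsum _ ((hd t.1).trans (d1 _)) ((hd t.2).trans (d2 _))) fun i hi => absurd ⟨i, hi⟩ hex⟩

end construction

/-- Arbitrarily large finite groups whose element orders are the divisors of the least common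
multiples of three of `9, 6, A, B, s₁, s₂`. -/
theorem exists_isospectral {A B s₁ s₂ : ℕ} (hA : 2 ∣ A) (hB : 2 ∣ B) (hA1 : 1 < A) (hB1 : 1 < B)
    (hs₁ : Odd s₁) (hs₂ : Odd s₂) (h3₁ : ¬ 3 ∣ s₁) (h3₂ : ¬ 3 ∣ s₂) (hc : Nat.Coprime s₁ s₂)
    (hcA : Nat.Coprime A (s₁ * s₂)) (hcB : Nat.Coprime B (s₁ * s₂)) (N : ℕ) :
    ∃ (H : Type) (_ : Group H) (_ : Fintype H), N < Fintype.card H ∧
      ∀ d, (∃ h : H, orderOf h = d) ↔ ∃ x y z : Fin 6,
        d ∣ Nat.lcm (slot A B s₁ s₂ x) (Nat.lcm (slot A B s₁ s₂ y) (slot A B s₁ s₂ z)) := by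
  haveI : NeZero s₁ := ⟨hs₁.pos.ne'⟩
  haveI : NeZero s₂ := ⟨hs₂.pos.ne'⟩
  have h2 : Nat.Coprime 2 (s₁ * s₂) :=
    Nat.Coprime.mul_right hs₁.coprime_two_left hs₂.coprime_two_left
  have h3 : Nat.Coprime 3 (s₁ * s₂) := Nat.Coprime.mul_right
    (Nat.prime_three.coprime_iff_not_dvd.2 h3₁) (Nat.prime_three.coprime_iff_not_dvd.2 h3₂)
  have hcop : ∀ i, Nat.Coprime (slot A B s₁ s₂ (kind i)) (s₁ * s₂) := by
    intro i
    fin_cases i
    exacts [hcA, hcA, hcB, hcB, h3.pow_left 2, h3.pow_left 2, h2.mul_left h3]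
  haveI hne : ∀ i : Fin 7, NeZero (slot A B s₁ s₂ (kind i)) := fun i =>
    ⟨(Nat.zero_lt_one.trans (one_lt_slot A B hA1 hB1 i)).ne'⟩
  haveI : ∀ x : Fin 7 × Fin (N + 1), Finite (Rt (slot A B s₁ s₂ (kind x.1)) (s₁ * s₂)) :=
    fun x => finite_rt
  haveI : Finite (Grp A B N hc) := Finite.of_equiv _ SemidirectProduct.equivProd.symm
  letI := Fintype.ofFinite (Grp A B N hc)
  refine ⟨Grp A B N hc, inferInstance, inferInstance, ?_, fun d => ⟨?_, ?_⟩⟩
  · rw [← Nat.card_eq_fintype_card]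
    have hnt : ∀ x : Fin 7 × Fin (N + 1), 2 ≤ Nat.card (Rt (slot A B s₁ s₂ (kind x.1)) (s₁ * s₂)) := by
      intro x
      haveI : Fact (1 < slot A B s₁ s₂ (kind x.1)) := ⟨one_lt_slot A B hA1 hB1 x.1⟩
      haveI : Nontrivial (Rt (slot A B s₁ s₂ (kind x.1)) (s₁ * s₂)) := by
        refine ⟨1, 0, fun e => ?_⟩
        have h := (natCast_eq_zero (n := slot A B s₁ s₂ (kind x.1))
          (NeZero.pos (s₁ * s₂)) 1).1 (by rw [Nat.cast_one]; exact e)
        exact (one_lt_slot A B hA1 hB1 x.1).ne' (Nat.dvd_one.1 h)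
      exact Finite.one_lt_card
    calc N < 2 ^ (N + 1) := Nat.lt_two_pow_self.trans_le (Nat.pow_le_pow_right (by norm_num) (by omega))
      _ ≤ 2 ^ Fintype.card (Fin 7 × Fin (N + 1)) := Nat.pow_le_pow_right (by norm_num) (by simp)
      _ ≤ Nat.card (Multiplicative (Base A B s₁ s₂ N)) := by
        rw [Nat.card_congr Multiplicative.toAdd, Nat.card_pi, ← Finset.card_univ, ← Finset.prod_const]
        exact Finset.prod_le_prod' fun x _ => hnt x
      _ ≤ _ := Nat.card_le_card_of_injective _ SemidirectProduct.inl_injective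
  · rintro ⟨h, rfl⟩
    exact sound A B N hc hA hcop hs₁ hs₂ h
  · rintro ⟨x, y, z, hd⟩
    obtain ⟨h, hh⟩ := realise A B N hc hA hB hA1 hB1 x y z
    exact ⟨h ^ (orderOf h / d), orderOf_pow_orderOf_div (orderOf_pos h).ne' (hd.trans hh)⟩

end CfsgLib.ReeG2Spectrum
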