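import Mathlib

/-!
Semidirect products of the additive group of a finite ring by a group acting through units, and the
cyclotomic quotient rings in which every non-trivial power of the root acts without fixed points.
-/

set_option autoImplicit false

namespace CfsgLib.ReeG2Spectrum

open Polynomial

section semidirect

variable {G F : Type*} [Group G] [CommRing F]

/-- Multiplication by units. -/
def unitsAct (u : G →* Fˣ) : G →* MulAut (Multiplicative F) where
  toFun g :=
    { toFun := fun x => Multiplicative.ofAdd ((u g : F) * x.toAdd)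
      invFun := fun x => Multiplicative.ofAdd (((u g)⁻¹ : Fˣ) * x.toAdd)
      left_inv := fun x => by simp [← mul_assoc]
      right_inv := fun x => by simp [← mul_assoc]
      map_mul' := fun x y => by simp [mul_add] }
  map_one' := by ext x; simp
  map_mul' g h := by ext x; simp [mul_assoc]

theorem unitsAct_apply (u : G →* Fˣ) (g : G) (x : Multiplicative F) :
    unitsAct u g x = Multiplicative.ofAdd ((u g : F) * x.toAdd) := rfl

variable (u : G →* Fˣ)

theorem pow_left (h : Multiplicative F ⋊[unitsAct u] G) (k : ℕ) :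
    (h ^ k).right = h.right ^ k ∧
      (h ^ k).left.toAdd = (∑ j ∈ Finset.range k, (u h.right : F) ^ j) * h.left.toAdd := by
  induction k with
  | zero => simp
  | succ k ih =>
    refine ⟨by rw [pow_succ, SemidirectProduct.mul_right, ih.1, pow_succ], ?_⟩
    rw [pow_succ, SemidirectProduct.mul_left, unitsAct_apply, toAdd_mul, toAdd_ofAdd, ih.1, ih.2,
      map_pow, Units.val_pow_eq_pow_val, Finset.sum_range_succ, add_mul]

theorem pow_eq_one (h : Multiplicative F ⋊[unitsAct u] G) (k : ℕ) :
    h ^ k = 1 ↔ h.right ^ k = 1 ∧ (∑ j ∈ Finset.range k, (u h.right : F) ^ j) * h.left.toAdd = 0 := by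
  obtain ⟨h1, h2⟩ := pow_left u h k
  rw [SemidirectProduct.ext_iff, h1, SemidirectProduct.one_left, SemidirectProduct.one_right, ← h2]
  exact ⟨fun e => ⟨e.2, by rw [e.1, toAdd_one]⟩, fun e => ⟨Multiplicative.toAdd.injective
    (by rw [e.2, toAdd_one]), e.1⟩⟩

end semidirect

/-- The ring `(ZMod n)[ζ]` with `ζ` a root of the `d`-th cyclotomic polynomial. -/
abbrev Rt (n d : ℕ) : Type := AdjoinRoot (cyclotomic d (ZMod n))

variable {n d : ℕ}

theorem finite_rt [NeZero n] : Finite (Rt n d) := by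
  have : Module.Finite (ZMod n) (Rt n d) :=
    Module.Finite.of_basis (AdjoinRoot.powerBasis' (cyclotomic.monic d _)).basis
  exact Module.finite_of_finite (ZMod n)

theorem natCast_eq_zero [Fact (1 < n)] (hd : 0 < d) (k : ℕ) : (k : Rt n d) = 0 ↔ n ∣ k := by
  constructor
  · intro h
    rw [← ZMod.natCast_eq_zero_iff k n]
    by_contra hk
    rw [← map_natCast (AdjoinRoot.mk (cyclotomic d (ZMod n))), AdjoinRoot.mk_eq_zero] at h
    refine Monic.not_dvd_of_natDegree_lt (cyclotomic.monic d _) ?_ ?_ h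
    · rw [← C_eq_natCast, ne_eq, C_eq_zero]
      exact hk
    · rw [natDegree_natCast, natDegree_cyclotomic]
      exact Nat.totient_pos.2 hd
  · intro h
    rw [← map_natCast (algebraMap (ZMod n) (Rt n d)), (ZMod.natCast_eq_zero_iff k n).2 h, map_zero]

theorem root_pow : (AdjoinRoot.root (cyclotomic d (ZMod n)) : Rt n d) ^ d = 1 := by
  have h := cyclotomic.dvd_X_pow_sub_one d (ZMod n)
  rw [← AdjoinRoot.mk_eq_zero, map_sub, map_pow, AdjoinRoot.mk_X, map_one, sub_eq_zero] at h
  exact h

/-- The powers of the root. -/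
noncomputable def rootChar [NeZero d] : AddChar (ZMod d) (Rt n d) :=
  AddChar.zmodChar d (root_pow (n := n))

theorem eq_zero_of_fixed [NeZero d] (hnd : Nat.Coprime n d) {i : ZMod d} (hi : i ≠ 0) {v : Rt n d}
    (hv : rootChar i * v = v) : v = 0 := by
  set g := Nat.gcd i.val d with hg
  have hgd : g < d := lt_of_le_of_lt
    (Nat.le_of_dvd (Nat.pos_of_ne_zero fun e => hi ((ZMod.val_eq_zero i).1 e)) (Nat.gcd_dvd_left _ _))
    (ZMod.val_lt i)
  obtain ⟨w, hw⟩ : ∃ w : ℕ, (g : ZMod d) = w • i := by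
    refine ⟨((i.val.gcdA d : ℤ) : ZMod d).val, ?_⟩
    rw [nsmul_eq_mul, ZMod.natCast_zmod_val]
    have h := congrArg (fun z : ℤ => (z : ZMod d)) (Nat.gcd_eq_gcd_ab i.val d)
    push_cast at h
    rw [ZMod.natCast_zmod_val, ZMod.natCast_self, zero_mul, add_zero, mul_comm] at h
    exact h
  set ζ := (AdjoinRoot.root (cyclotomic d (ZMod n)) : Rt n d) with hζ
  have hgv : ζ ^ g * v = v := by
    have e : rootChar (n := n) (g : ZMod d) = ζ ^ g := by
      rw [rootChar, AddChar.zmodChar_apply']
    rw [← e, hw, AddChar.map_nsmul_eq_pow]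
    clear hw
    induction w with
    | zero => rw [pow_zero, one_mul]
    | succ w ih => rw [pow_succ, mul_assoc, hv, ih]
  have hgdd : g ∣ d := Nat.gcd_dvd_right _ _
  have hdvd : cyclotomic d (ZMod n) ∣ ∑ j ∈ Finset.range (d / g), (X ^ g) ^ j := by
    have h := X_pow_sub_one_mul_cyclotomic_dvd_X_pow_sub_one_of_dvd ℤ
      (Nat.mem_properDivisors.2 ⟨hgdd, hgd⟩)
    have e : (X ^ d - 1 : ℤ[X]) = (X ^ g - 1) * ∑ j ∈ Finset.range (d / g), (X ^ g) ^ j := by
      rw [mul_geom_sum, ← pow_mul, Nat.mul_div_cancel' hgdd]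
    rw [e, mul_dvd_mul_iff_left (by simpa using X_pow_sub_C_ne_zero (R := ℤ) (Nat.gcd_pos_of_pos_right i.val (NeZero.pos d)) 1)] at h
    have h' := map_dvd (mapRingHom (Int.castRingHom (ZMod n))) h
    simpa [map_cyclotomic, map_sum] using h'
  rw [← AdjoinRoot.mk_eq_zero, map_sum] at hdvd
  simp only [map_pow, AdjoinRoot.mk_X] at hdvd
  have hfix : ∀ j : ℕ, (ζ ^ g) ^ j * v = v := fun j => by
    induction j with
    | zero => rw [pow_zero, one_mul]
    | succ j ih => rw [pow_succ, mul_assoc, hgv, ih]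
  have h0 : ((d / g : ℕ) : Rt n d) * v = 0 := by
    have h := congrArg (· * v) hdvd
    simp only [Finset.sum_mul, zero_mul] at h
    rw [← hζ] at h
    simp only [hfix, Finset.sum_const, Finset.card_range, nsmul_eq_mul] at h
    exact h
  have hu : IsUnit ((d / g : ℕ) : Rt n d) := by
    rw [← map_natCast (algebraMap (ZMod n) (Rt n d))]
    exact ((ZMod.isUnit_iff_coprime _ _).2
      ((hnd.coprime_dvd_right (Nat.div_dvd_of_dvd hgdd)).symm)).map _
  exact hu.mul_right_eq_zero.1 h0

theorem geom_sum_mul_eq_zero [NeZero d] (hnd : Nat.Coprime n d) {i : ZMod d} (hi : i ≠ 0) {k : ℕ}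
    (hk : rootChar (n := n) i ^ k = 1) (v : Rt n d) :
    (∑ j ∈ Finset.range k, rootChar (n := n) i ^ j) * v = 0 := by
  refine eq_zero_of_fixed hnd hi ?_
  have h := mul_geom_sum (rootChar (n := n) i) k
  rw [hk, sub_self, sub_mul, one_mul, sub_eq_zero] at h
  rw [← mul_assoc, h]

end CfsgLib.ReeG2Spectrum
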